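import Mathlib.Algebra.Polynomial.Eval.Coeff
import Mathlib.Algebra.Polynomial.Coeff
import Mathlib.Data.Nat.Choose.Lucas
import Mathlib.LinearAlgebra.Matrix.Block
import Mathlib.Algebra.CharP.Basic
import Mathlib.Data.Nat.Prime.Basic

/-!
# Translating a polynomial and its Cartier-Manin matrix
-/

namespace Groth.Agent.H36.CartierManin

universe u

open Polynomial

variable {k : Type u} [CommRing k] (p : ℕ) [Fact p.Prime] [CharP k p]

theorem choose_cast_lucas {n m a b : ℕ} (hn : n < p) (hm : m < p) :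
    (((a * p + n).choose (b * p + m) : ℕ) : k) = (a.choose b : k) * (n.choose m : k) := by
  have h := Choose.choose_modEq_choose_mod_mul_choose_div_nat (p := p) (n := a * p + n) (k := b * p + m)
  have hp : 0 < p := (Fact.out : p.Prime).pos
  rw [Nat.add_comm (a * p), Nat.add_comm (b * p), Nat.add_mul_mod_self_right, Nat.add_mul_mod_self_right,
    Nat.mod_eq_of_lt hn, Nat.mod_eq_of_lt hm, Nat.add_mul_div_right _ _ hp, Nat.add_mul_div_right _ _ hp,
    Nat.div_eq_of_lt hn, Nat.div_eq_of_lt hm, zero_add, zero_add, mul_comm (n.choose m)] at h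
  rw [← CharP.natCast_eq_natCast k p] at h
  rw [Nat.add_comm (a * p), Nat.add_comm (b * p), h, Nat.cast_mul]

theorem coeff_comp_X_add_C (F : Polynomial k) (α : k) (M l : ℕ) (hM : F.natDegree < M) :
    (F.comp (X + C α)).coeff l = ∑ m ∈ Finset.range M, F.coeff m * (α ^ (m - l) * (m.choose l : k)) := by
  rw [Polynomial.comp_eq_sum_left, Polynomial.sum_over_range' _ (by simp) M hM, finsetSum_coeff]
  simp only [coeff_C_mul, coeff_X_add_C_pow]

theorem cartierManin_comp (hp : p ≠ 2) (g : ℕ) (hg : g ≤ p) (f : Polynomial k)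
    (hf : f.natDegree ≤ 2 * g + 2) (α : k) :
    (Matrix.of fun i j : Fin g =>
        ((f.comp (X + C α)) ^ ((p - 1) / 2)).coeff (((i : ℕ) + 1) * p - ((j : ℕ) + 1))) =
      (Matrix.of fun i I : Fin g => (((I : ℕ).choose (i : ℕ) : ℕ) : k) * α ^ (((I : ℕ) - (i : ℕ)) * p)) *
        (Matrix.of fun i j : Fin g => (f ^ ((p - 1) / 2)).coeff (((i : ℕ) + 1) * p - ((j : ℕ) + 1))) *
        (Matrix.of fun J j : Fin g =>
          (((p - ((J : ℕ) + 1)).choose (p - ((j : ℕ) + 1)) : ℕ) : k) * α ^ ((j : ℕ) - (J : ℕ))) := by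
  have hp' := (Fact.out : p.Prime)
  have hp0 : 0 < p := hp'.pos
  ext i j
  have hi := i.isLt
  have hj := j.isLt
  rw [← pow_comp]
  set F := f ^ ((p - 1) / 2) with hF
  have hdeg : F.natDegree ≤ (g + 1) * (p - 1) := by
    refine natDegree_pow_le.trans ((Nat.mul_le_mul_left _ hf).trans (le_of_eq ?_))
    obtain ⟨m, hm⟩ := Nat.Prime.odd_of_ne_two hp' hp
    rw [show (p - 1) / 2 = m by omega, show p - 1 = 2 * m by omega]
    ring
  have hM : F.natDegree < (g + 1) * p := by
    have : (g + 1) * (p - 1) < (g + 1) * p := Nat.mul_lt_mul_of_pos_left (by omega) (by omega)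
    omega
  have hl : ((i : ℕ) + 1) * p - ((j : ℕ) + 1) = (i : ℕ) * p + (p - ((j : ℕ) + 1)) := by
    rw [Nat.add_mul, Nat.one_mul]; omega
  have hidx : ∀ I J : Fin g, ((I : ℕ) + 1) * p - ((J : ℕ) + 1) = (I : ℕ) * p + (p - ((J : ℕ) + 1)) := by
    intro I J
    have := J.isLt
    rw [Nat.add_mul, Nat.one_mul]; omega
  simp only [Matrix.of_apply, Matrix.mul_apply, Finset.sum_mul]
  rw [coeff_comp_X_add_C F α _ _ hM, hl, Finset.sum_comm, ← Finset.sum_product']
  symm
  refine Finset.sum_bij_ne_zero (fun q _ _ => (q.1 : ℕ) * p + (p - ((q.2 : ℕ) + 1))) ?_ ?_ ?_ ?_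
  · rintro ⟨I, J⟩ - -
    have := I.isLt
    have := J.isLt
    have h1 : ((I : ℕ) + 1) * p ≤ g * p := Nat.mul_le_mul_right p (by omega)
    rw [Nat.add_mul, Nat.one_mul] at h1
    rw [Finset.mem_range, Nat.add_mul, Nat.one_mul]
    dsimp only
    omega
  · rintro ⟨I, J⟩ - - ⟨I', J'⟩ - - h
    have := J.isLt
    have := J'.isLt
    simp only at h
    have h2 : p - ((J : ℕ) + 1) = p - ((J' : ℕ) + 1) := by
      have := congr_arg (· % p) h
      simpa [Nat.add_mul_mod_self_right, Nat.add_comm ((I : ℕ) * p), Nat.add_comm ((I' : ℕ) * p),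
        Nat.mod_eq_of_lt (show p - ((J : ℕ) + 1) < p by omega),
        Nat.mod_eq_of_lt (show p - ((J' : ℕ) + 1) < p by omega)] using this
    have h3 : (I : ℕ) * p = (I' : ℕ) * p := by omega
    exact Prod.ext (Fin.ext (Nat.eq_of_mul_eq_mul_right hp0 h3)) (Fin.ext (by dsimp only; omega))
  · intro m hm hne
    rw [Finset.mem_range] at hm
    obtain ⟨a, r, hr, rfl⟩ : ∃ a r, r < p ∧ m = a * p + r :=
      ⟨m / p, m % p, Nat.mod_lt _ hp0, (Nat.div_add_mod' m p).symm⟩
    rw [choose_cast_lucas p hr (by omega)] at hne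
    have hr' : p - ((j : ℕ) + 1) ≤ r := by
      by_contra hc
      rw [Nat.choose_eq_zero_of_lt (Nat.lt_of_not_le hc), Nat.cast_zero, mul_zero, mul_zero, mul_zero] at hne
      exact hne rfl
    have ha : a < g := by
      by_contra hc
      have h1 : g * p ≤ a * p := Nat.mul_le_mul_right p (Nat.le_of_not_lt hc)
      refine hne ?_
      have h2 : (g + 1) * (p - 1) + (g + 1) = g * p + p := by
        rw [← Nat.mul_add_one, Nat.sub_add_cancel hp0, Nat.add_mul, Nat.one_mul]
      rw [coeff_eq_zero_of_natDegree_lt (lt_of_le_of_lt hdeg (by omega)), zero_mul]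
    have hia : (i : ℕ) ≤ a := by
      by_contra hc
      rw [Nat.choose_eq_zero_of_lt (Nat.lt_of_not_le hc), Nat.cast_zero, zero_mul, mul_zero, mul_zero] at hne
      exact hne rfl
    refine ⟨(⟨a, ha⟩, ⟨p - (r + 1), by omega⟩), Finset.mem_product.mpr ⟨Finset.mem_univ _, Finset.mem_univ _⟩, ?_, ?_⟩
    · intro h0
      apply hne
      dsimp only at h0
      rw [show (a + 1) * p - (p - (r + 1) + 1) = a * p + r by rw [Nat.add_mul, Nat.one_mul]; omega] at h0
      rw [show p - (p - (r + 1) + 1) = r by omega] at h0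
      rw [← h0, show a * p + r - ((i : ℕ) * p + (p - ((j : ℕ) + 1))) =
        (a - (i : ℕ)) * p + ((j : ℕ) - (p - (r + 1))) by
          have h9 : (i : ℕ) * p ≤ a * p := Nat.mul_le_mul_right p hia
          rw [Nat.sub_mul]; omega, pow_add]
      ring
    · dsimp only
      omega
  · rintro ⟨I, J⟩ - hne
    have := I.isLt
    have := J.isLt
    dsimp only at hne ⊢
    have hI : (i : ℕ) ≤ I := by
      by_contra hc
      rw [Nat.choose_eq_zero_of_lt (Nat.lt_of_not_le hc)] at hne
      simp at hne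
    have hJ : (J : ℕ) ≤ j := by
      by_contra hc
      rw [Nat.choose_eq_zero_of_lt (show p - ((J : ℕ) + 1) < p - ((j : ℕ) + 1) by omega)] at hne
      simp at hne
    rw [hidx, choose_cast_lucas p (by omega) (by omega),
      show (I : ℕ) * p + (p - ((J : ℕ) + 1)) - ((i : ℕ) * p + (p - ((j : ℕ) + 1))) =
        ((I : ℕ) - (i : ℕ)) * p + ((j : ℕ) - (J : ℕ)) by
        have h9 : (i : ℕ) * p ≤ (I : ℕ) * p := Nat.mul_le_mul_right p hI
        rw [Nat.sub_mul]; omega, pow_add]
    ring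

theorem det_cartierManin_comp (hp : p ≠ 2) (g : ℕ) (hg : g ≤ p) (f : Polynomial k)
    (hf : f.natDegree ≤ 2 * g + 2) (α : k) :
    (Matrix.of fun i j : Fin g =>
        ((f.comp (X + C α)) ^ ((p - 1) / 2)).coeff (((i : ℕ) + 1) * p - ((j : ℕ) + 1))).det =
      (Matrix.of fun i j : Fin g => (f ^ ((p - 1) / 2)).coeff (((i : ℕ) + 1) * p - ((j : ℕ) + 1))).det := by
  have hL : (Matrix.of fun i I : Fin g =>
      (((I : ℕ).choose (i : ℕ) : ℕ) : k) * α ^ (((I : ℕ) - (i : ℕ)) * p)).det = 1 := by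
    rw [Matrix.det_of_isUpperTriangular]
    · simp
    · intro I J h
      have h' : (J : ℕ) < I := h
      simp [Nat.choose_eq_zero_of_lt h']
  have hU : (Matrix.of fun J j : Fin g =>
      (((p - ((J : ℕ) + 1)).choose (p - ((j : ℕ) + 1)) : ℕ) : k) * α ^ ((j : ℕ) - (J : ℕ))).det = 1 := by
    rw [Matrix.det_of_isUpperTriangular]
    · simp
    · intro I J h
      have h' : (J : ℕ) < I := h
      have := I.isLt
      simp [Nat.choose_eq_zero_of_lt (show p - ((I : ℕ) + 1) < p - ((J : ℕ) + 1) by omega)]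
  rw [cartierManin_comp p hp g hg f hf α, Matrix.det_mul, Matrix.det_mul, hL, hU, one_mul, mul_one]

end Groth.Agent.H36.CartierManin
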